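import Groth.Agent.Lib.UnipPt29.Basic
import Groth.Agent.Lib.Unip23.Primitive
import Groth.Agent.S3308
import Groth.Agent.S7975
import Groth.Agent.Lib.UnipExt20.Basic
import Groth.Agent.Lib.UnipPow23.Torus
import Groth.Agent.Lib.HopfFF23.Range

/-!
# One dimensional affine groups are commutative

`eq_zero_of_pts`, `finite_zeros`, `commute_of_invariant`, `eq_algebraMap_of_class`,
`isUnipotent_of_not_commute`, `isCocomm`.
-/

set_option autoImplicit false
set_option linter.style.haveILetI false
set_option backward.isDefEq.respectTransparency.types false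
set_option maxSynthPendingDepth 3

universe u v

open WithConv HopfRep
open scoped TensorProduct

noncomputable section

namespace Groth.Agent.DimOne23

variable {k : Type u} [Field k] [IsAlgClosed k] {A : Type v} [CommRing A]

theorem eq_zero_of_pts [Algebra k A] [IsDomain A] [Algebra.FiniteType k A] {a : A}
    (h : ∀ z : A →ₐ[k] k, z a = 0) : a = 0 := by
  haveI : IsJacobsonRing A := isJacobsonRing_of_finiteType (A := k)
  have hj : (⊥ : Ideal A).jacobson = ⊥ :=
    IsJacobsonRing.out inferInstance (inferInstance : (⊥ : Ideal A).IsPrime).isRadical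
  rw [← Ideal.mem_bot, ← hj, Ideal.jacobson, Submodule.mem_sInf]
  rintro m ⟨-, hm⟩
  haveI := hm
  letI := Ideal.Quotient.field m
  haveI : Module.Finite k (A ⧸ m) := finite_of_finite_type_of_isJacobsonRing k (A ⧸ m)
  let e : k ≃ₐ[k] A ⧸ m := AlgEquiv.ofBijective (Algebra.ofId k (A ⧸ m))
    IsAlgClosed.algebraMap_bijective_of_isIntegral
  have h1 := h (e.symm.toAlgHom.comp (Ideal.Quotient.mkₐ k m))
  simp only [AlgHom.comp_apply, AlgEquiv.coe_toAlgHom, EmbeddingLike.map_eq_zero_iff] at h1
  exact Ideal.Quotient.eq_zero_iff_mem.1 h1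

omit [IsAlgClosed k] in
theorem finite_zeros [Algebra k A] [IsDomain A] [Algebra.FiniteType k A] (hdim : ringKrullDim A = 1)
    {f : A} (hf : f ≠ 0) : {z : A →ₐ[k] k | z f = 0}.Finite := by
  let B := A ⧸ Ideal.span {f}
  haveI : Algebra.FiniteType k B :=
    Algebra.FiniteType.of_surjective (Ideal.Quotient.mkₐ k _) Ideal.Quotient.mk_surjective
  have h1 : ringKrullDim B + 1 ≤ ringKrullDim A :=
    ringKrullDim_quotient_succ_le_of_nonZeroDivisor (mem_nonZeroDivisors_of_ne_zero hf)
  rw [hdim] at h1
  haveI : Ring.KrullDimLE 0 B := by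
    rw [Ring.krullDimLE_iff]
    revert h1
    generalize ringKrullDim B = d
    intro h1
    cases d with
    | bot => exact bot_le
    | coe d =>
      have h2 : d + 1 ≤ (1 : ℕ∞) := WithBot.coe_le_coe.1 h1
      cases d with
      | top => simp at h2
      | coe d =>
        have h3 : d + 1 ≤ 1 := by exact_mod_cast h2
        have : d = 0 := by omega
        subst this; exact le_rfl
  haveI : IsNoetherianRing B := Algebra.FiniteType.isNoetherianRing k B
  haveI : IsArtinianRing B := IsNoetherianRing.isArtinianRing_of_krullDimLE_zero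
  haveI : Module.Finite k B := (Module.finite_iff_isArtinianRing k B).2 inferInstance
  refine Set.Finite.subset (Set.finite_range fun w : B →ₐ[k] k => w.comp (Ideal.Quotient.mkₐ k _)) fun z hz => ?_
  refine ⟨Ideal.Quotient.liftₐ _ z fun a ha => ?_, AlgHom.ext fun a => rfl⟩
  obtain ⟨c, rfl⟩ := Ideal.mem_span_singleton'.1 ha
  rw [map_mul, show z f = 0 from hz, mul_zero]

theorem eq_zero_of_infinite [Algebra k A] [IsDomain A] [Algebra.FiniteType k A] (hdim : ringKrullDim A = 1)
    {f : A} {S : Set (A →ₐ[k] k)} (hS : S.Infinite) (h : ∀ z ∈ S, z f = 0) : f = 0 :=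
  by_contra fun hf => hS ((finite_zeros (k := k) hdim hf).subset h)

/-- A map whose values on points are finitely many is constant. -/
theorem eq_algebraMap_of_finite [Algebra k A] [IsDomain A] [Algebra.FiniteType k A] {a : A} {S : Set k}
    (hS : S.Finite) (h : ∀ z : A →ₐ[k] k, z a ∈ S) : ∃ c : k, a = algebraMap k A c := by
  classical
  have hp : ∏ c ∈ hS.toFinset, (a - algebraMap k A c) = 0 := by
    refine eq_zero_of_pts (k := k) fun z => ?_
    rw [map_prod]
    refine Finset.prod_eq_zero (hS.mem_toFinset.2 (h z)) ?_
    rw [map_sub, AlgHom.commutes]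
    simp
  obtain ⟨c, -, hc⟩ := Finset.prod_eq_zero_iff.1 hp
  exact ⟨c, sub_eq_zero.1 hc⟩

variable [HopfAlgebra k A]

variable (k A) in
/-- The points. -/
abbrev Pts := WithConv (A →ₐ[k] k)

/-- Evaluation of `A`-valued points at a point. -/
def evalHom {T : Type*} [CommRing T] [Algebra k T] (y : T →ₐ[k] k) : WithConv (A →ₐ[k] T) →* Pts k A where
  toFun f := toConv (y.comp f.ofConv)
  map_one' := ofConv_injective (AlgHom.ext fun a => y.commutes _)
  map_mul' f g := ofConv_injective (AlgHom.comp_convMul_distrib y f g)

variable (k A) in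
/-- The generic point. -/
def gen : WithConv (A →ₐ[k] A) := toConv (AlgHom.id k A)

/-- The constant point. -/
def cst (x : Pts k A) : WithConv (A →ₐ[k] A) := toConv ((Algebra.ofId k A).comp x.ofConv)

omit [IsAlgClosed k] in
theorem evalHom_gen (y : Pts k A) : evalHom y.ofConv (gen k A) = y :=
  ofConv_injective (AlgHom.comp_id _)

omit [IsAlgClosed k] in
theorem evalHom_cst (y x : Pts k A) : evalHom y.ofConv (cst x) = x :=
  ofConv_injective (AlgHom.ext fun _ => AlgHom.commutes _ _)

variable [IsDomain A] [Algebra.FiniteType k A] (hdim : ringKrullDim A = 1)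

include hdim in
/-- A family of points over the group with values in the zero set of a non-zero function is constant. -/
theorem const_of_zero {f : A} (hf : f ≠ 0) (h : WithConv (A →ₐ[k] A))
    (hh : ∀ y : Pts k A, (evalHom y.ofConv h).ofConv f = 0) (y y' : Pts k A) :
    evalHom y.ofConv h = evalHom y'.ofConv h := by
  refine ofConv_injective (AlgHom.ext fun a => ?_)
  obtain ⟨c, hc⟩ := eq_algebraMap_of_finite (k := k) (a := h.ofConv a)
    ((finite_zeros (k := k) hdim hf).image fun z => z a) fun z => ⟨z.comp h.ofConv, hh (toConv z), rfl⟩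
  show y.ofConv (h.ofConv a) = y'.ofConv (h.ofConv a)
  rw [hc, AlgHom.commutes, AlgHom.commutes]

include hdim in
/-- A non-constant function constant on commutators makes the points commute. -/
theorem commute_of_invariant {f : A} (hf : f ∉ Set.range (algebraMap k A))
    (hinv : ∀ x y : Pts k A, (y * x * y⁻¹ * x⁻¹).ofConv f = (1 : Pts k A).ofConv f) (x y : Pts k A) :
    Commute x y := by
  let h : WithConv (A →ₐ[k] A) := gen k A * cst x * (gen k A)⁻¹ * (cst x)⁻¹
  have hev : ∀ z : Pts k A, evalHom z.ofConv h = z * x * z⁻¹ * x⁻¹ := fun z => by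
    simp only [h, map_mul, map_inv, evalHom_gen, evalHom_cst]
  have hne : f - algebraMap k A ((1 : Pts k A).ofConv f) ≠ 0 := fun e => hf ⟨_, (sub_eq_zero.1 e).symm⟩
  have hc := const_of_zero hdim hne h (fun z => by rw [hev, map_sub, AlgHom.commutes, hinv]; simp) y 1
  rw [hev, hev] at hc
  simp only [one_mul, mul_one, inv_one, mul_inv_cancel] at hc
  have : y * x * (x * y)⁻¹ = 1 := by rw [← hc]; group
  exact (mul_inv_eq_one.1 this).symm

include hdim in
/-- A class function is constant unless every point is central. -/
theorem eq_algebraMap_of_class {x y₀ : Pts k A} (hxy : ¬Commute x y₀) {c : A}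
    (hc : ∀ u v : Pts k A, (v * u * v⁻¹).ofConv c = u.ofConv c) : c = algebraMap k A (x.ofConv c) := by
  let h : WithConv (A →ₐ[k] A) := gen k A * cst x * (gen k A)⁻¹
  have hev : ∀ z : Pts k A, evalHom z.ofConv h = z * x * z⁻¹ := fun z => by
    simp only [h, map_mul, map_inv, evalHom_gen, evalHom_cst]
  have hinj : Function.Injective h.ofConv := by
    refine (injective_iff_map_eq_zero _).2 fun f hf => by_contra fun hne => hxy ?_
    have h1 := const_of_zero hdim hne h (fun z => by
      show z.ofConv (h.ofConv f) = 0
      rw [hf, map_zero]) y₀ 1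
    rw [hev, hev] at h1
    simp only [one_mul, mul_one, inv_one] at h1
    exact (eq_mul_of_mul_inv_eq h1).symm
  refine hinj (sub_eq_zero.1 (eq_zero_of_pts (k := k) fun z => ?_))
  rw [map_sub, AlgHom.commutes, AlgHom.commutes, sub_eq_zero]
  calc z (h.ofConv c) = (evalHom (toConv z).ofConv h).ofConv c := rfl
    _ = (toConv z * x * (toConv z)⁻¹).ofConv c := by rw [hev]
    _ = x.ofConv c := hc _ _

section rep

variable {V : Type v} [AddCommGroup V] [Module k V] [Comod k A V]

/-- The action as a representation of the points. -/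
def actHom : Representation k (Pts k A) V where
  toFun g := Comod.act k A V g.ofConv
  map_one' := UnipPt29.act_one
  map_mul' g h := UnipPt29.act_conv g h

omit [IsAlgClosed k] [IsDomain A] [Algebra.FiniteType k A] in
theorem coord_act {ι : Type*} (b : Module.Basis ι k V) (g : A →ₐ[k] k) (w : V) (i : ι) :
    b.coord i (Comod.act k A V g w) =
      g (TensorProduct.lid k A ((b.coord i).rTensor A (Comod.coact (k := k) (A := A) w))) := by
  simp only [Comod.act, LinearMap.comp_apply, LinearEquiv.coe_coe]
  induction Comod.coact (k := k) (A := A) w with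
  | zero => simp
  | tmul v a => simp [mul_comm]
  | add p q hp hq => simp only [map_add, hp, hq]

variable [Module.Finite k V]

include hdim in
theorem isNilpotent_act_sub_one {x y₀ : Pts k A} (hxy : ¬Commute x y₀) (g : Pts k A) :
    IsNilpotent (Comod.act k A V g.ofConv - 1) := by
  classical
  let b := Module.Free.chooseBasis k V
  let M : Matrix _ _ A := Matrix.of fun i j =>
    TensorProduct.lid k A ((b.coord i).rTensor A (Comod.coact (k := k) (A := A) (b j)))
  have hM : ∀ z : Pts k A, M.map z.ofConv = LinearMap.toMatrix b b (Comod.act k A V z.ofConv) := fun z => by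
    ext i j
    rw [LinearMap.toMatrix_apply]
    exact (coord_act b z.ofConv (b j) i).symm
  have hcp : ∀ z : Pts k A, M.charpoly.map z.ofConv.toRingHom = (Comod.act k A V z.ofConv).charpoly := fun z => by
    rw [← Matrix.charpoly_map, ← LinearMap.charpoly_toMatrix _ b]
    exact congrArg Matrix.charpoly (hM z)
  have hclass : ∀ (n : ℕ) (u v : Pts k A), (v * u * v⁻¹).ofConv (M.charpoly.coeff n) = u.ofConv (M.charpoly.coeff n) := by
    intro n u v
    have e : (Comod.act k A V (v * u * v⁻¹).ofConv).charpoly = (Comod.act k A V u.ofConv).charpoly := by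
      let φ : V ≃ₗ[k] V := LinearMap.GeneralLinearGroup.generalLinearEquiv k V
        ((actHom (k := k) (A := A) (V := V)).toHomUnits v)
      rw [← LinearEquiv.charpoly_conj φ (Comod.act k A V u.ofConv)]
      congr 1
      show actHom (v * u * v⁻¹) = _
      rw [map_mul, map_mul]
      refine LinearMap.ext fun w => ?_
      have hinv : φ.symm w = actHom (k := k) (A := A) (V := V) v⁻¹ w := by
        rw [LinearEquiv.symm_apply_eq]
        show w = actHom (k := k) (A := A) (V := V) v (actHom v⁻¹ w)
        rw [← Module.End.mul_apply, ← map_mul, mul_inv_cancel, map_one]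
        rfl
      rw [LinearEquiv.conj_apply_apply, hinv]
      rfl
    have h1 := congrArg (Polynomial.coeff · n) (hcp (v * u * v⁻¹))
    have h2 := congrArg (Polynomial.coeff · n) (hcp u)
    simp only [Polynomial.coeff_map] at h1 h2
    exact h1.trans ((congrArg (Polynomial.coeff · n) e).trans h2.symm)
  have heq : (Comod.act k A V g.ofConv).charpoly = (Comod.act k A V (1 : Pts k A).ofConv).charpoly := by
    rw [← hcp, ← hcp]
    refine Polynomial.ext fun n => ?_
    rw [Polynomial.coeff_map, Polynomial.coeff_map, eq_algebraMap_of_class hdim hxy (hclass n)]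
    exact (g.ofConv.commutes _).trans ((1 : Pts k A).ofConv.commutes _).symm
  refine ⟨Module.finrank k V, ?_⟩
  have h3 := LinearMap.aeval_self_charpoly (Comod.act k A V g.ofConv)
  rw [heq, UnipPt29.act_one, show (LinearMap.id : V →ₗ[k] V) = 1 from rfl, LinearMap.charpoly_one] at h3
  simpa using h3

end rep

omit [IsAlgClosed k] [IsDomain A] [Algebra.FiniteType k A] in
theorem eq_zero_of_lslices {V : Type*} [AddCommGroup V] [Module k V] {w : V ⊗[k] A}
    (h : ∀ φ : Module.Dual k V, TensorProduct.lid k A (φ.rTensor A w) = 0) : w = 0 := by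
  classical
  obtain ⟨⟨ι, b⟩⟩ := Module.Free.exists_basis (R := k) (M := V)
  refine (TensorProduct.equivFinsuppOfBasisLeft b).injective (Finsupp.ext fun i => ?_)
  rw [map_zero, Finsupp.zero_apply, TensorProduct.equivFinsuppOfBasisLeft_apply]
  exact h (b.coord i)

include hdim in
theorem isUnipotent_of_not_commute {x y₀ : Pts k A} (hxy : ¬Commute x y₀) : IsUnipotent k A := by
  intro V _ _ _ hfin hnt
  obtain ⟨w, hw0, hw⟩ := S7975.result k (Pts k A) V (actHom (k := k) (A := A) (V := V))
    fun g => isNilpotent_act_sub_one hdim hxy g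
  refine fun hbot => hw0 ?_
  have hmem : w ∈ fixedPts k A V := by
    show Comod.coact (k := k) (A := A) w = w ⊗ₜ[k] (1 : A)
    rw [← sub_eq_zero]
    refine eq_zero_of_lslices fun φ => eq_zero_of_pts (k := k) fun z => ?_
    have h1 : φ (Comod.act k A V z w) = φ w := congrArg φ (hw (toConv z))
    have h2 : φ (Comod.act k A V z w) = z (TensorProduct.lid k A (φ.rTensor A (Comod.coact (k := k) (A := A) w))) := by
      simp only [Comod.act, LinearMap.comp_apply, LinearEquiv.coe_coe]
      induction Comod.coact (k := k) (A := A) w with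
      | zero => simp
      | tmul v a => simp [mul_comm]
      | add p q hp hq => simp only [map_add, hp, hq]
    simp [← h2, h1]
  rwa [hbot, Submodule.mem_bot] at hmem

theorem isCocomm_of_commute (h : ∀ x y : Pts k A, Commute x y) : Coalgebra.IsCocomm k A := by
  classical
  refine ⟨LinearMap.ext fun a => sub_eq_zero.1 (eq_zero_of_lslices fun φ => ?_)⟩
  refine eq_zero_of_pts (k := k) fun y => ?_
  let w := TensorProduct.comm k A A (Coalgebra.comul (R := k) a) - Coalgebra.comul (R := k) a
  show y (TensorProduct.lid k A (φ.rTensor A w)) = 0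
  have hw : TensorProduct.rid k A ((y.toLinearMap).lTensor A w) = 0 := by
    refine eq_zero_of_pts (k := k) fun x => ?_
    have hswap : ∀ t : A ⊗[k] A, x (TensorProduct.rid k A ((y.toLinearMap).lTensor A t)) =
        LinearMap.mul' k k (TensorProduct.map x.toLinearMap y.toLinearMap t) := fun t => by
      induction t with
      | zero => simp
      | tmul p q => simp [mul_comm]
      | add p q hp hq => simp only [map_add, hp, hq]
    have hcomm : ∀ t : A ⊗[k] A, LinearMap.mul' k k (TensorProduct.map x.toLinearMap y.toLinearMap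
        (TensorProduct.comm k A A t)) = LinearMap.mul' k k (TensorProduct.map y.toLinearMap x.toLinearMap t) :=
      fun t => by
      induction t with
      | zero => simp
      | tmul p q => simp [mul_comm]
      | add p q hp hq => simp only [map_add, hp, hq]
    simp only [w, map_sub, hswap, hcomm, sub_eq_zero]
    have e := congrArg (fun g : Pts k A => g.ofConv a) (h (toConv y) (toConv x)).eq
    simp only [AlgHom.convMul_apply] at e
    convert e using 1 <;>
    · induction Coalgebra.comul (R := k) a with
      | zero => simp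
      | tmul p q => simp
      | add p q hp hq => simp only [map_add, hp, hq]
  have hlast : ∀ t : A ⊗[k] A, y (TensorProduct.lid k A (φ.rTensor A t)) =
      φ (TensorProduct.rid k A ((y.toLinearMap).lTensor A t)) := fun t => by
    induction t with
    | zero => simp
    | tmul p q => simp [mul_comm]
    | add p q hp hq => simp only [map_add, hp, hq]
  rw [hlast, hw, map_zero]

omit [IsAlgClosed k] [Algebra.FiniteType k A] in
theorem apply_mul {a : A} (ha : Unip23.IsPrim (k := k) a) (x y : Pts k A) :
    (x * y).ofConv a = x.ofConv a + y.ofConv a := by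
  rw [AlgHom.convMul_apply, show Coalgebra.comul (R := k) a = _ from ha]
  simp

include hdim in
theorem exists_prim (hU : IsUnipotent k A) : ∃ t : A, t ≠ 0 ∧ Unip23.IsPrim (k := k) t := by
  refine Unip23.exists_prim_ne_zero hU fun h => ?_
  have hbij : Function.Bijective (algebraMap k A) := ⟨(algebraMap k A).injective, fun a => by
    obtain ⟨c, hc⟩ := Submodule.mem_span_singleton.1 (h a)
    exact ⟨c, by rw [Algebra.algebraMap_eq_smul_one, hc]⟩⟩
  have := ringKrullDim_eq_of_ringEquiv (RingEquiv.ofBijective _ hbij)
  rw [ringKrullDim_eq_zero_of_field, hdim] at this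
  exact absurd this (by norm_num)

include hdim in
/-- One dimensional connected reduced groups are commutative. -/
theorem isCocomm : Coalgebra.IsCocomm k A := by
  refine isCocomm_of_commute fun x y => by_contra fun hxy => ?_
  obtain ⟨t, ht0, ht⟩ := exists_prim hdim (isUnipotent_of_not_commute hdim hxy)
  refine hxy (commute_of_invariant hdim (f := t) ?_ (fun a b => ?_) x y)
  · rintro ⟨c, rfl⟩
    have h0 := Unip23.counit_of_isPrim ht
    rw [Bialgebra.counit_algebraMap] at h0
    exact ht0 (by rw [h0, map_zero])
  · simp only [apply_mul ht]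
    have hi : ∀ z : Pts k A, (z⁻¹).ofConv t = -z.ofConv t := fun z => by
      have e := apply_mul ht z z⁻¹
      rw [mul_inv_cancel] at e
      have h1 : (1 : Pts k A).ofConv t = 0 := by
        show algebraMap k k (Coalgebra.counit t) = 0
        rw [Unip23.counit_of_isPrim ht, map_zero]
      linear_combination h1 - e
    rw [hi, hi]
    show _ = algebraMap k k (Coalgebra.counit t)
    rw [Unip23.counit_of_isPrim ht, map_zero]
    ring

end Groth.Agent.DimOne23
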