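import Groth.Agent.Lib.DimOne23.Basic
import Groth.Agent.Lib.UniStr23.Killed2
import Groth.Agent.Lib.Unip23.Log
import Groth.Agent.Lib.HopfPts19.Basic
import Mathlib.LinearAlgebra.Eigenspace.Semisimple
import Mathlib.LinearAlgebra.Eigenspace.Pi
import Mathlib.RingTheory.Bialgebra.SymmetricAlgebra
import Mathlib.RingTheory.Polynomial.Cyclotomic.Roots
import Mathlib.GroupTheory.SpecificGroups.Cyclic

/-!
# Classification of one dimensional connected reduced groups

`isDiagonalizable`, `gm_equiv`, `isUnipotent_of_trivial`, `ga_equiv`, `classification`.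
-/

set_option autoImplicit false
set_option linter.style.haveILetI false
set_option backward.isDefEq.respectTransparency.types false
set_option maxSynthPendingDepth 3

universe u v

open WithConv HopfRep
open scoped TensorProduct

noncomputable section

namespace Groth.Agent.DimOne23

variable {k : Type u} [Field k] [IsAlgClosed k] {A : Type u} [CommRing A] [HopfAlgebra k A]

/-- Characters of a group of group-like elements extend to points. -/
theorem exists_pt_char {H : Type} [CommGroup H] (f : H →* GroupLike k A) (hf : Function.Injective f) (χ : H →* k) :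
    ∃ z : Pts k A, ∀ x, z.ofConv (f x : A) = χ x := by
  let φ : MonoidAlgebra k H →ₐc[k] A := (Unip23.groupLikeHom k A).comp (MonoidAlgebra.mapDomainBialgHom k f)
  have hφ : Function.Injective φ := fun a b hab =>
    MonoidAlgebra.mapDomain_injective hf (Unip23.groupLikeHom_injective hab)
  have hval : ∀ x, φ (MonoidAlgebra.single x 1) = (f x : A) := fun x => by
    show Unip23.groupLikeHom k A (MonoidAlgebra.mapDomainBialgHom k f (MonoidAlgebra.single x 1)) = _
    rw [MonoidAlgebra.mapDomainBialgHom_single, Unip23.groupLikeHom_single, one_smul]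
  let e := AlgEquiv.ofInjective (φ : MonoidAlgebra k H →ₐ[k] A) hφ
  obtain ⟨w, hw⟩ := (HopfPts19.isSub_range φ).exists_extend ((MonoidAlgebra.lift k k H χ).comp e.symm.toAlgHom)
  refine ⟨toConv w, fun x => ?_⟩
  have h1 := hw (e (MonoidAlgebra.single x 1))
  rw [AlgHom.comp_apply, show e.symm.toAlgHom (e (MonoidAlgebra.single x 1)) = _ from e.symm_apply_apply _,
    MonoidAlgebra.lift_single, one_smul] at h1
  rw [← hval x]
  exact h1

variable [IsDomain A] [Algebra.FiniteType k A] [Coalgebra.IsCocomm k A] (hdim : ringKrullDim A = 1)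

omit [IsAlgClosed k] [Algebra.FiniteType k A] [Coalgebra.IsCocomm k A] [IsDomain A] in
theorem apply_groupLike (g : GroupLike k A) (x y : Pts k A) :
    (x * y).ofConv (g : A) = x.ofConv (g : A) * y.ofConv (g : A) := by
  rw [AlgHom.convMul_apply, g.2.comul_eq_tmul_self]
  simp

/-- Evaluation at a group-like element. -/
def chr (g : GroupLike k A) : Pts k A →* k where
  toFun z := z.ofConv (g : A)
  map_one' := by
    show algebraMap k k (Coalgebra.counit (g : A)) = 1
    rw [g.2.counit_eq_one, map_one]
  map_mul' := apply_groupLike g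

omit [IsAlgClosed k] [Algebra.FiniteType k A] [Coalgebra.IsCocomm k A] in
theorem sub_one_ne_zero {g : GroupLike k A} (hg : g ≠ 1) : (g : A) - 1 ≠ 0 := fun e =>
  hg (GroupLike.ext (by rw [GroupLike.val_one]; exact sub_eq_zero.1 e))

omit [IsAlgClosed k] [Coalgebra.IsCocomm k A] in
include hdim in
theorem finite_ker {g : GroupLike k A} (hg : g ≠ 1) : {z : Pts k A | chr g z = 1}.Finite := by
  have h := (finite_zeros hdim (sub_one_ne_zero hg)).image (toConv (A := A →ₐ[k] k))
  refine h.subset fun z hz => ⟨z.ofConv, ?_, rfl⟩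
  show z.ofConv ((g : A) - 1) = 0
  rw [map_sub, map_one, sub_eq_zero]
  exact hz

omit [Coalgebra.IsCocomm k A] in
theorem zpow_injective {g : GroupLike k A} (hg : g ≠ 1) : Function.Injective fun i : ℤ => g ^ i := by
  haveI := UnipPow23.isMulTorsionFree_groupLike (k := k) (A := A)
  exact injective_zpow_iff_not_isOfFinOrder.2 (not_isOfFinOrder_of_isMulTorsionFree hg)

/-- The points of finite order prime to the characteristic. -/
def tors (k : Type u) [Field k] (A : Type u) [CommRing A] [HopfAlgebra k A] : Set (Pts k A) :=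
  {z | ∃ l : ℕ, l.Prime ∧ (l : k) ≠ 0 ∧ z ^ l = 1}

include hdim in
theorem infinite_tors {g : GroupLike k A} (hg : g ≠ 1) : (tors k A).Infinite := by
  classical
  intro hfin
  let K : Subgroup (Pts k A) := (chr g).ker
  haveI : Finite K := (finite_ker hdim hg).to_subtype
  let N := Nat.card K
  have hN : 0 < N := Nat.card_pos
  let b := hfin.toFinset.sup orderOf
  obtain ⟨l, hlb, hl⟩ := Nat.exists_infinite_primes (N + b + ringChar k + 1)
  have hlk : (l : k) ≠ 0 := by
    intro h0
    have hd := (ringChar.spec k l).1 h0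
    rcases (Nat.dvd_prime hl).1 hd with h1 | h1
    · exact CharP.ringChar_ne_one h1
    · omega
  haveI : NeZero (l : k) := ⟨hlk⟩
  obtain ⟨ζ, hζ⟩ := IsAlgClosed.exists_root (Polynomial.cyclotomic l k) (by
    rw [Polynomial.degree_cyclotomic]
    exact_mod_cast (Nat.totient_pos.2 hl.pos).ne')
  have hprim : IsPrimitiveRoot ζ l := Polynomial.isRoot_cyclotomic_iff.1 hζ
  let f : Multiplicative ℤ →* GroupLike k A := zpowersHom _ g
  have hf : Function.Injective f := fun a b hab => by
    have := zpow_injective hg (show g ^ a.toAdd = g ^ b.toAdd from hab)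
    exact Multiplicative.toAdd.injective this
  obtain ⟨z, hz⟩ := exists_pt_char f hf
    ((Units.coeHom k).comp (zpowersHom kˣ (hprim.isUnit hl.ne_zero).unit))
  have hzg : chr g z = ζ := by
    have := hz (Multiplicative.ofAdd 1)
    simpa [f, chr] using this
  have hzl : z ^ l ∈ K := by
    rw [MonoidHom.mem_ker, map_pow, hzg, hprim.pow_eq_one]
  have hzlN : (z ^ N) ^ l = 1 := by
    rw [← pow_mul, mul_comm, pow_mul]
    exact congrArg Subtype.val (pow_card_eq_one' (x := (⟨z ^ l, hzl⟩ : K)))
  have hne : z ^ N ≠ 1 := by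
    intro e
    have h1 := congrArg (chr g) e
    rw [map_pow, hzg, map_one, hprim.pow_eq_one_iff_dvd] at h1
    have := Nat.le_of_dvd hN h1
    omega
  haveI : Fact l.Prime := ⟨hl⟩
  have hord : orderOf (z ^ N) = l := orderOf_eq_prime hzlN hne
  have hmem : z ^ N ∈ hfin.toFinset := hfin.mem_toFinset.2 ⟨l, hl, hlk, hzlN⟩
  have := Finset.le_sup (f := orderOf) hmem
  omega

include hdim in
theorem isDiagonalizable {g : GroupLike k A} (hg : g ≠ 1) : IsDiagonalizable k A := by
  classical
  refine Submodule.eq_top_iff'.2 fun a => ?_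
  obtain ⟨N, hN, hNfin, ha⟩ := Comodule.exists_finite_subcomod (k := k) (A := A) (V := A) a
  letI : Comod k A N := Comodule.subComod N hN
  have hss : ∀ s : tors k A, Module.End.IsSemisimple (Comod.act k A N s.1.ofConv) := fun s => by
    obtain ⟨l, hl, hlk, hs⟩ := s.2
    refine Module.End.isSemisimple_of_squarefree_aeval_eq_zero
      (p := Polynomial.X ^ l - Polynomial.C 1) (Polynomial.separable_X_pow_sub_C 1 hlk one_ne_zero).squarefree ?_
    rw [map_sub, map_pow, Polynomial.aeval_X, Polynomial.aeval_C, map_one, ← UnipPt29.act_pow, hs,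
      UnipPt29.act_one]
    exact sub_self _
  have hcomm : Pairwise fun s t : tors k A =>
      Commute (actHom (k := k) (A := A) (V := N) s.1) (actHom (k := k) (A := A) (V := N) t.1) :=
    fun s t _ => (Commute.all s.1 t.1).map _
  have htop := Module.End.iSup_iInf_maxGenEigenspace_eq_top_of_iSup_maxGenEigenspace_eq_top_of_commute
    (fun s : tors k A => actHom (k := k) (A := A) (V := N) s.1) hcomm fun s => Module.End.iSup_maxGenEigenspace_eq_top _
  have hS : ((toConv (A := A →ₐ[k] k)) ⁻¹' tors k A).Infinite := fun h =>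
    infinite_tors hdim hg (by
      have := h.image (toConv (A := A →ₐ[k] k))
      rwa [Set.image_preimage_eq _ WithConv.toConv_surjective] at this)
  suffices key : (⊤ : Submodule k N) ≤ (Submodule.span k {c : A | IsGroupLikeElem k c}).comap N.subtype from
    key (Submodule.mem_top : (⟨a, ha⟩ : N) ∈ _)
  rw [← htop]
  refine iSup_le fun χ => fun v hv => ?_
  show (v : A) ∈ Submodule.span k {c : A | IsGroupLikeElem k c}
  by_cases hv0 : v = 0
  · simp [hv0]
  obtain ⟨ψ, hψ⟩ : ∃ ψ : Module.Dual k N, ψ v = 1 := by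
    obtain ⟨ψ, hψ⟩ := Module.Projective.exists_dual_ne_zero k hv0
    exact ⟨(ψ v)⁻¹ • ψ, by simp [hψ]⟩
  have heig : ∀ s : tors k A, Comod.act k A N s.1.ofConv v = χ s • v := fun s => by
    have h1 : v ∈ Module.End.maxGenEigenspace (Comod.act k A N s.1.ofConv) (χ s) := Submodule.mem_iInf _ |>.1 hv s
    rw [(hss s).isFinitelySemisimple.maxGenEigenspace_eq_eigenspace] at h1
    exact Module.End.mem_eigenspace_iff.1 h1
  let w := Comod.coact (k := k) (A := A) v
  let c := TensorProduct.lid k A (ψ.rTensor A w)
  have hw : w = v ⊗ₜ[k] c := by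
    refine sub_eq_zero.1 (eq_zero_of_lslices fun φ => ?_)
    have hker : ∀ φ' : Module.Dual k N, φ' v = 0 → TensorProduct.lid k A (φ'.rTensor A w) = 0 := fun φ' hφ' => by
      refine eq_zero_of_infinite hdim hS fun z hz => ?_
      have h2 := congrArg φ' (heig ⟨toConv z, hz⟩)
      rw [map_smul, hφ', smul_zero] at h2
      have h3 : ∀ t : N ⊗[k] A, z (TensorProduct.lid k A (φ'.rTensor A t)) =
          φ' (TensorProduct.rid k N (z.toLinearMap.lTensor N t)) := fun t => by
        induction t with
        | zero => simp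
        | tmul p q => simp [mul_comm]
        | add p q hp hq => simp only [map_add, hp, hq]
      exact (h3 w).trans h2
    have h4 := hker (φ - φ v • ψ) (by simp [hψ])
    rw [LinearMap.rTensor_sub, LinearMap.rTensor_smul, LinearMap.sub_apply, LinearMap.smul_apply, map_sub,
      map_smul, sub_eq_zero] at h4
    rw [map_sub, map_sub, h4, LinearMap.rTensor_tmul, TensorProduct.lid_tmul, sub_self]
  have hΔ : Coalgebra.comul (R := k) (v : A) = (v : A) ⊗ₜ[k] c := by
    have h5 : N.subtype.rTensor A w = Coalgebra.comul (R := k) (v : A) :=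
      Comodule.rTensor_coactRestrict N hN v
    rw [← h5, hw, LinearMap.rTensor_tmul]
    rfl
  have hvc : (v : A) = Coalgebra.counit (R := k) (v : A) • c := by
    have h6 := Coalgebra.rTensor_counit_comul (R := k) (v : A)
    rw [hΔ, LinearMap.rTensor_tmul] at h6
    have h7 := congrArg (TensorProduct.lid k A) h6
    simpa using h7.symm
  have hε : Coalgebra.counit (R := k) (v : A) ≠ 0 := fun e => hv0 (Subtype.ext (by rw [hvc, e, zero_smul]; rfl))
  have hcg : IsGroupLikeElem k c := by
    refine ⟨?_, ?_⟩
    · have h8 := congrArg (Coalgebra.counit (R := k)) hvc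
      rw [map_smul, smul_eq_mul] at h8
      exact mul_left_cancel₀ hε (h8.symm.trans (mul_one _).symm)
    · have h9 := hΔ
      rw [hvc, map_smul, ← TensorProduct.smul_tmul'] at h9
      exact smul_right_injective _ hε h9
  rw [hvc]
  exact Submodule.smul_mem _ _ (Submodule.subset_span hcg)

include hdim in
/-- A non-trivial character forces the multiplicative group. -/
theorem gm_equiv {g : GroupLike k A} (hg : g ≠ 1) :
    Nonempty (A ≃ₐc[k] MonoidAlgebra k (Multiplicative ℤ)) := by
  classical
  haveI := UnipPow23.isMulTorsionFree_groupLike (k := k) (A := A)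
  -- every character is commensurable with `g`
  have hrank : ∀ h : GroupLike k A, ∃ m : ℕ, m ≠ 0 ∧ h ^ m ∈ Subgroup.zpowers g := by
    intro h
    by_contra! hcon
    let f : Multiplicative ℤ × Multiplicative ℤ →* GroupLike k A :=
      (zpowersHom _ g).coprod (zpowersHom _ h)
    have hf : Function.Injective f := by
      refine (injective_iff_map_eq_one f).2 fun x hx => ?_
      have hx' : g ^ x.1.toAdd * h ^ x.2.toAdd = 1 := hx
      have h2 : x.2.toAdd = 0 := by
        by_contra hj
        refine hcon x.2.toAdd.natAbs (Int.natAbs_ne_zero.2 hj) ?_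
        have hmem : h ^ x.2.toAdd ∈ Subgroup.zpowers g :=
          ⟨-x.1.toAdd, by show g ^ (-x.1.toAdd) = _; rw [eq_inv_of_mul_eq_one_right hx', zpow_neg]⟩
        rw [← zpow_natCast]
        rcases Int.natAbs_eq x.2.toAdd with e | e
        · rwa [← e]
        · rw [show (x.2.toAdd.natAbs : ℤ) = -x.2.toAdd by omega, zpow_neg]
          exact inv_mem hmem
      rw [h2, zpow_zero, mul_one] at hx'
      have h1 : x.1.toAdd = 0 := zpow_injective hg (hx'.trans (zpow_zero g).symm)
      exact Prod.ext (Multiplicative.toAdd.injective h1) (Multiplicative.toAdd.injective h2)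
    have hval : ∀ c : kˣ, ∃ z : Pts k A, chr g z = 1 ∧ chr h z = c := fun c => by
      obtain ⟨z, hz⟩ := exists_pt_char f hf
        ((Units.coeHom k).comp ((1 : Multiplicative ℤ →* kˣ).coprod (zpowersHom kˣ c)))
      refine ⟨z, ?_, ?_⟩
      · simpa [f, chr] using hz (Multiplicative.ofAdd 1, 1)
      · simpa [f, chr] using hz (1, Multiplicative.ofAdd 1)
    choose z hz1 hz2 using hval
    haveI : Infinite kˣ := by
      haveI : Infinite k := IsAlgClosed.instInfinite
      haveI : Infinite {x : k // x ≠ 0} := (Set.finite_singleton (0 : k)).infinite_compl.to_subtype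
      exact Infinite.of_injective (fun x : {x : k // x ≠ 0} => Units.mk0 x.1 x.2) fun a b hab =>
        Subtype.ext (congrArg Units.val hab)
    exact Set.infinite_range_of_injective (f := z)
      (fun a b hab => Units.ext (by rw [← hz2 a, hab, hz2 b]))
      ((finite_ker hdim hg).subset (by rintro _ ⟨c, rfl⟩; exact hz1 c))
  obtain ⟨s, hs⟩ := (UnipPow23.fg_groupLike (k := k) (A := A)).fg_top
  choose m hm0 hm using hrank
  let M := ∏ x ∈ s, m x
  have hM0 : M ≠ 0 := Finset.prod_ne_zero_iff.2 fun x _ => hm0 x
  have hM : ∀ h : GroupLike k A, h ^ M ∈ Subgroup.zpowers g := by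
    intro h
    have hle : Submonoid.closure (s : Set (GroupLike k A)) ≤
        (Subgroup.zpowers g).toSubmonoid.comap (powMonoidHom M) := by
      refine Submonoid.closure_le.2 fun x hx => ?_
      show x ^ M ∈ Subgroup.zpowers g
      obtain ⟨q, hq⟩ : m x ∣ M := Finset.dvd_prod_of_mem _ hx
      rw [hq, pow_mul]
      exact pow_mem (hm x) q
    exact hle (hs ▸ Submonoid.mem_top h)
  haveI : IsCyclic (GroupLike k A) := isCyclic_of_injective
    ((powMonoidHom M : GroupLike k A →* GroupLike k A).codRestrict (Subgroup.zpowers g) hM)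
    (fun a b hab => pow_left_injective hM0 (congrArg Subtype.val hab))
  haveI : Infinite (GroupLike k A) := Infinite.of_injective _ (zpow_injective hg)
  obtain ⟨x, hx⟩ := IsCyclic.exists_generator (α := GroupLike k A)
  have hxtop : Subgroup.zpowers x = ⊤ := eq_top_iff.2 fun y _ => hx y
  let F : MonoidAlgebra k (Multiplicative ℤ) →ₐc[k] A :=
    (Unip23.groupLikeHom k A).comp (MonoidAlgebra.mapDomainBialgHom k (zpowersHom _ x))
  have hbij : Function.Bijective (zpowersHom (GroupLike k A) x) := zpowersHom_bijective hxtop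
  have hF : Function.Bijective F := by
    refine ⟨fun a b hab => MonoidAlgebra.mapDomain_injective hbij.1 (Unip23.groupLikeHom_injective hab), ?_⟩
    intro a
    have ha : a ∈ Submodule.span k {c : A | IsGroupLikeElem k c} :=
      (isDiagonalizable hdim hg).symm ▸ Submodule.mem_top
    suffices Submodule.span k {c : A | IsGroupLikeElem k c} ≤
        LinearMap.range (F : MonoidAlgebra k (Multiplicative ℤ) →ₐ[k] A).toLinearMap by
      obtain ⟨b, hb⟩ := this ha
      exact ⟨b, hb⟩
    refine Submodule.span_le.2 fun c hc => ?_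
    obtain ⟨i, hi⟩ := hbij.2 ⟨c, hc⟩
    refine ⟨MonoidAlgebra.single i 1, ?_⟩
    show Unip23.groupLikeHom k A (MonoidAlgebra.mapDomainBialgHom k (zpowersHom _ x) (MonoidAlgebra.single i 1)) = c
    rw [MonoidAlgebra.mapDomainBialgHom_single, Unip23.groupLikeHom_single, one_smul, hi]
  exact ⟨(BialgEquiv.ofBijective F hF).symm⟩

omit [IsDomain A] in
/-- Without non-trivial characters the group is unipotent. -/
theorem isUnipotent_of_trivial (h : ∀ g : GroupLike k A, g = 1) : IsUnipotent k A := by
  let i : A →ₐc[k] A := BialgHom.id k A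
  have hbot : RingHom.ker (i : A →ₐ[k] A) = ⊥ := (RingHom.injective_iff_ker_eq_bot _).1 fun a b e => e
  haveI : (⊥ : Ideal A).IsHopfIdeal k := hbot ▸ HopfFF23.isHopfIdeal_ker i
  refine UnipExt20.isUnipotent_of_injective (Bialgebra.Quotient.mkBialgHom (R := k) (⊥ : Ideal A)) (fun a b e => ?_)
    (Unip23.isUnipotent_kernel (S3308.result k A) ⊥ fun g => by
      rw [h g, GroupLike.val_one, sub_self]; exact zero_mem _)
  exact sub_eq_zero.1 ((Submodule.mem_bot A).1 (Ideal.Quotient.eq.1 e))

include hdim in
theorem powHom_prime_eq_one (hU : IsUnipotent k A) (p : ℕ) [CharP k p] :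
    UnipPow23.powHom (k := k) (A := A) p = 1 := by
  obtain ⟨t, ht0, ht⟩ := exists_prim hdim hU
  let h : WithConv (A →ₐ[k] A) := UnipPow23.powHom (k := k) (A := A) p
  have hev : ∀ y : Pts k A, evalHom y.ofConv h = y ^ p := fun y => by
    show evalHom y.ofConv (gen k A ^ p) = _
    rw [map_pow, evalHom_gen]
  have hpow : ∀ (y : Pts k A) (n : ℕ), (y ^ n).ofConv t = n * y.ofConv t := fun y n => by
    induction n with
    | zero =>
      show algebraMap k k (Coalgebra.counit t) = _
      rw [Unip23.counit_of_isPrim ht]; simp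
    | succ n ih => rw [pow_succ, apply_mul ht, ih, Nat.cast_succ, add_mul, one_mul]
  have hconst := const_of_zero hdim ht0 h fun y => by rw [hev, hpow, CharP.cast_eq_zero, zero_mul]
  refine ofConv_injective (AlgHom.ext fun a => sub_eq_zero.1 (eq_zero_of_pts (k := k) fun z => ?_))
  have h1 := congrArg (fun w : Pts k A => w.ofConv a) (hconst (toConv z) 1)
  rw [hev (1 : Pts k A), one_pow] at h1
  rw [map_sub, sub_eq_zero]
  exact h1.trans (z.commutes _).symm

omit [IsAlgClosed k] [Coalgebra.IsCocomm k A] [IsDomain A] [Algebra.FiniteType k A] in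
include hdim in
/-- A primitive coordinate gives the additive group. -/
theorem ga_of_coord {n : ℕ} (z : Fin n → A) (hz : ∀ i, Unip23.IsPrim (k := k) (z i)) (hind : AlgebraicIndependent k z)
    (hgen : Algebra.adjoin k (Set.range z) = ⊤) : Nonempty (A ≃ₐc[k] SymmetricAlgebra k k) := by
  have hbij : Function.Bijective (MvPolynomial.aeval z : MvPolynomial (Fin n) k →ₐ[k] A) :=
    ⟨hind, fun a => (AlgHom.mem_range _).1 (by rw [← Algebra.adjoin_range_eq_range_aeval, hgen]; trivial)⟩
  have hn : n = 1 := by
    have h1 := ringKrullDim_eq_of_ringEquiv (RingEquiv.ofBijective _ hbij)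
    rw [MvPolynomial.ringKrullDim_of_isNoetherianRing, ringKrullDim_eq_zero_of_field, zero_add, hdim,
      Nat.card_fin] at h1
    exact_mod_cast h1
  subst hn
  let ψ₀ : SymmetricAlgebra k k →ₐ[k] A := SymmetricAlgebra.lift (LinearMap.toSpanSingleton k A (z 0))
  have hι : ∀ x : k, ψ₀ (SymmetricAlgebra.ι k k x) = x • z 0 := fun x => SymmetricAlgebra.lift_ι_apply _ x
  let ψ : SymmetricAlgebra k k →ₐc[k] A := BialgHom.ofAlgHom ψ₀
    (SymmetricAlgebra.algHom_ext (LinearMap.ext fun x => by
      show Coalgebra.counit (R := k) (ψ₀ (SymmetricAlgebra.ι k k x)) = Coalgebra.counit (SymmetricAlgebra.ι k k x)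
      rw [hι, map_smul, Unip23.counit_of_isPrim (hz 0), smul_zero, SymmetricAlgebra.counit_ι]))
    (SymmetricAlgebra.algHom_ext (LinearMap.ext fun x => by
      show Algebra.TensorProduct.map ψ₀ ψ₀ (Coalgebra.comul (R := k) (SymmetricAlgebra.ι k k x)) =
        Coalgebra.comul (R := k) (ψ₀ (SymmetricAlgebra.ι k k x))
      rw [SymmetricAlgebra.comul_ι, map_add, Algebra.TensorProduct.map_tmul, Algebra.TensorProduct.map_tmul,
        map_one, hι, map_smul, show Coalgebra.comul (R := k) (z 0) = _ from hz 0, smul_add,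
        TensorProduct.smul_tmul', TensorProduct.tmul_smul]))
  let b : Module.Basis (Fin 1) k k := Module.Basis.singleton (Fin 1) k
  have he : ψ₀.comp (SymmetricAlgebra.equivMvPolynomial b).symm.toAlgHom = MvPolynomial.aeval z :=
    MvPolynomial.algHom_ext fun i => by
      rw [AlgHom.comp_apply, MvPolynomial.aeval_X]
      show ψ₀ ((SymmetricAlgebra.equivMvPolynomial b).symm (MvPolynomial.X i)) = _
      rw [SymmetricAlgebra.equivMvPolynomial_symm_X, hι, Module.Basis.singleton_apply, one_smul,
        Subsingleton.elim i 0]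
  have hψ : Function.Bijective ψ := by
    have h2 : Function.Bijective (ψ₀ ∘ (SymmetricAlgebra.equivMvPolynomial b).symm) := by
      convert hbij using 1
      exact congrArg DFunLike.coe he
    exact (Function.Bijective.of_comp_iff _ (SymmetricAlgebra.equivMvPolynomial b).symm.bijective).1 h2
  exact ⟨(BialgEquiv.ofBijective ψ hψ).symm⟩

include hdim in
theorem ga_equiv (hU : IsUnipotent k A) : Nonempty (A ≃ₐc[k] SymmetricAlgebra k k) := by
  rcases CharP.exists' k with hk | ⟨p, hp, hk⟩
  · haveI := hk
    obtain ⟨n, x, hind, hgen, hx⟩ := Unip23.exists_primitive_generators (k := k) (A := A) hU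
    exact ga_of_coord hdim x hx hind hgen
  · haveI := hk
    haveI := hp
    obtain ⟨n, z, hz, hind, hgen⟩ := UniStr23.exists_vec (p := p) hU (powHom_prime_eq_one hdim hU p)
    exact ga_of_coord hdim z hz hind hgen

include hdim in
theorem classification :
    Nonempty (A ≃ₐc[k] MonoidAlgebra k (Multiplicative ℤ)) ∨ Nonempty (A ≃ₐc[k] SymmetricAlgebra k k) := by
  by_cases h : ∀ g : GroupLike k A, g = 1
  · exact Or.inr (ga_equiv hdim (isUnipotent_of_trivial h))
  · obtain ⟨g, hg⟩ := not_forall.1 h
    exact Or.inl (gm_equiv hdim hg)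

end Groth.Agent.DimOne23
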