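import Groth.Agent.Lib.DimOne23.NoPrim
import Mathlib.FieldTheory.PurelyInseparable.Basic
import Mathlib.FieldTheory.IsAlgClosed.AlgebraicClosure

/-!
# Group-like elements descend along purely inseparable extensions without additive functions

`glike_descend_insep`, `isDiagonalizable_of_insep`.
-/

set_option autoImplicit false
set_option linter.style.haveILetI false
set_option backward.isDefEq.respectTransparency.types false
set_option maxSynthPendingDepth 3

universe u v w

open HopfRep
open scoped TensorProduct

noncomputable section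

namespace Groth.Agent.DimOne23

section rigid

variable {k : Type u} [Field k] {A : Type v} [CommRing A] [HopfAlgebra k A] {T : Type w} [CommRing T] [Algebra k T]

/-- Comultiplication with coefficients. -/
abbrev dT (T : Type w) [CommRing T] [Algebra k T] (A : Type v) [CommRing A] [HopfAlgebra k A] :
    T ⊗[k] A →ₐ[k] T ⊗[k] (A ⊗[k] A) :=
  Algebra.TensorProduct.map (AlgHom.id k T) (Bialgebra.comulAlgHom k A)

/-- The first inclusion with coefficients. -/
abbrev i1T (T : Type w) [CommRing T] [Algebra k T] (A : Type v) [CommRing A] [HopfAlgebra k A] :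
    T ⊗[k] A →ₐ[k] T ⊗[k] (A ⊗[k] A) :=
  Algebra.TensorProduct.map (AlgHom.id k T) Algebra.TensorProduct.includeLeft

/-- The second inclusion with coefficients. -/
abbrev i2T (T : Type w) [CommRing T] [Algebra k T] (A : Type v) [CommRing A] [HopfAlgebra k A] :
    T ⊗[k] A →ₐ[k] T ⊗[k] (A ⊗[k] A) :=
  Algebra.TensorProduct.map (AlgHom.id k T) Algebra.TensorProduct.includeRight

theorem eq_one_of_nil (h : ∀ f : A, Unip23.IsPrim (k := k) f → f = 0) (z : T ⊗[k] A)
    (hz : dT T A z = i1T T A z * i2T T A z)
    (hnil : ∀ φ : A →ₗ[k] k, IsNilpotent (TensorProduct.rid k T (φ.lTensor T (z - 1)))) : z = 1 := by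
  classical
  set ε := z - 1 with hε
  have hq : dT T A ε - i1T T A ε - i2T T A ε = i1T T A ε * i2T T A ε := by
    simp only [hε, map_sub, map_one, hz]
    ring
  let P : A →ₗ[k] A ⊗[k] A := (Bialgebra.comulAlgHom k A).toLinearMap -
    (Algebra.TensorProduct.includeLeft (R := k) (S := k) (A := A) (B := A)).toLinearMap -
    (Algebra.TensorProduct.includeRight (R := k) (A := A) (B := A)).toLinearMap
  have hP : LinearMap.ker P = ⊥ := LinearMap.ker_eq_bot'.2 fun f hf => h f (by
    simp only [P, LinearMap.sub_apply, AlgHom.toLinearMap_apply, Bialgebra.comulAlgHom_apply,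
      Algebra.TensorProduct.includeLeft_apply, Algebra.TensorProduct.includeRight_apply] at hf
    rw [Unip23.IsPrim]
    exact sub_eq_iff_eq_add'.1 (sub_eq_zero.1 hf) |>.trans (add_comm _ _) |>.trans (by abel))
  obtain ⟨L, hL⟩ := P.exists_leftInverse_of_injective hP
  have hPT : P.lTensor T ε = i1T T A ε * i2T T A ε := by
    rw [← hq, LinearMap.lTensor_sub, LinearMap.lTensor_sub]
    rfl
  have hεL : ε = L.lTensor T (i1T T A ε * i2T T A ε) := by
    rw [← hPT, ← LinearMap.lTensor_comp_apply, hL, LinearMap.lTensor_id]
    rfl
  let b := Module.Free.chooseBasis k A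
  let c : Module.Free.ChooseBasisIndex k A → T := fun i => TensorProduct.rid k T ((b.coord i).lTensor T ε)
  let e := TensorProduct.equivFinsuppOfBasisRight (M := T) b
  have hc' : ∀ (y : T ⊗[k] A) i, e y i = TensorProduct.rid k T ((b.coord i).lTensor T y) := by
    intro y i
    induction y using TensorProduct.induction_on with
    | zero => simp
    | tmul a d => simp [e]
    | add a d ha hd => simp only [map_add, Finsupp.add_apply, ha, hd]
  have hc : ∀ i, e ε i = c i := fun i => hc' ε i
  have hsum : ε = (e ε).sum fun i t => t ⊗ₜ[k] b i :=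
    (e.symm_apply_apply ε).symm.trans (TensorProduct.equivFinsuppOfBasisRight_symm_apply b _)
  let s := (e ε).support
  let I : Ideal T := Ideal.span ((fun i => e ε i) '' (s : Set _))
  have hII : ∀ i, c i ∈ I * I := by
    intro i
    have hci : c i = TensorProduct.rid k T ((b.coord i ∘ₗ L).lTensor T (i1T T A ε * i2T T A ε)) := by
      simp only [c]
      conv_lhs => rw [hεL]
      rw [← LinearMap.lTensor_comp_apply]
    rw [hci]
    conv in (i1T T A ε * i2T T A ε) => rw [hsum]
    simp only [Finsupp.sum, map_sum, Finset.sum_mul_sum]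
    refine Ideal.sum_mem _ fun p hp => Ideal.sum_mem _ fun q hq => ?_
    simp only [i1T, i2T, Algebra.TensorProduct.map_tmul, AlgHom.id_apply, Algebra.TensorProduct.tmul_mul_tmul,
      LinearMap.lTensor_tmul, TensorProduct.rid_tmul]
    rw [Algebra.smul_def]
    exact Ideal.mul_mem_left _ _ (Ideal.mul_mem_mul (Ideal.subset_span ⟨p, hp, rfl⟩)
      (Ideal.subset_span ⟨q, hq, rfl⟩))
  have hle : I ≤ I * I := Ideal.span_le.2 (by
    rintro _ ⟨i, -, rfl⟩
    show e ε i ∈ I * I
    rw [hc]
    exact hII i)
  have hfg' : I.FG := ⟨s.image (fun i => e ε i), by rw [Finset.coe_image]⟩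
  have hInil : IsNilpotent I := hfg'.isNilpotent_iff_le_nilradical.2 (Ideal.span_le.2 (by
    rintro _ ⟨i, -, rfl⟩
    show e ε i ∈ nilradical T
    rw [hc]
    exact mem_nilradical.2 (hnil _)))
  have hI0 : I = ⊥ := by
    obtain ⟨r, hr⟩ := hInil
    have : ∀ r : ℕ, I ≤ I ^ (r + 1) := by
      intro r
      induction r with
      | zero => simp
      | succ r ih =>
        calc I ≤ I * I := hle
          _ ≤ I ^ (r + 1) * I := Ideal.mul_mono ih le_rfl
          _ = I ^ (r + 1 + 1) := (pow_succ _ _).symm
    exact le_bot_iff.1 ((this r).trans (by rw [pow_succ, hr]; simp))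
  have : ε = 0 := by
    rw [hsum, Finsupp.sum]
    refine Finset.sum_eq_zero fun i hi => ?_
    have : e ε i ∈ I := Ideal.subset_span ⟨i, hi, rfl⟩
    rw [hI0, Ideal.mem_bot] at this
    rw [this, TensorProduct.zero_tmul]
  rw [← sub_eq_zero]
  exact this

end rigid

section descend

variable {k : Type u} [Field k] {K : Type u} [Field K] [Algebra k K] {A : Type v} [CommRing A] [HopfAlgebra k A]

/-- A group-like element of the base change, in terms of the coefficient maps. -/
theorem dT_eq_of_isGroupLikeElem {x : K ⊗[k] A} (hx : IsGroupLikeElem K x) :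
    dT K A x = i1T K A x * i2T K A x := by
  let Φ : (K ⊗[k] A) ⊗[K] (K ⊗[k] A) →ₐ[K] K ⊗[k] (A ⊗[k] A) :=
    Algebra.TensorProduct.lift (Algebra.TensorProduct.map (AlgHom.id K K) Algebra.TensorProduct.includeLeft)
      (Algebra.TensorProduct.map (AlgHom.id K K) Algebra.TensorProduct.includeRight) (fun _ _ => Commute.all _ _)
  have h : Φ.comp (Bialgebra.comulAlgHom K (K ⊗[k] A)) =
      Algebra.TensorProduct.map (AlgHom.id K K) (Bialgebra.comulAlgHom k A) := by
    refine Algebra.TensorProduct.ext (Subsingleton.elim _ _) (AlgHom.ext fun a => ?_)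
    show Φ (CoalgebraStruct.comul (R := K) ((1 : K) ⊗ₜ[k] a)) = (1 : K) ⊗ₜ[k] CoalgebraStruct.comul (R := k) a
    rw [TensorProduct.comul_def]
    simp only [LinearMap.comp_apply, LinearEquiv.coe_coe, TensorProduct.AlgebraTensorModule.map_tmul,
      CommSemiring.comul_apply]
    induction CoalgebraStruct.comul (R := k) a using TensorProduct.induction_on with
    | zero => simp
    | tmul p q => simp [Φ, Algebra.TensorProduct.tmul_mul_tmul]
    | add p q hp hq => simp only [TensorProduct.tmul_add, map_add, hp, hq]
  have := DFunLike.congr_fun h x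
  simp only [AlgHom.comp_apply, Bialgebra.comulAlgHom_apply, hx.comul_eq_tmul_self, Φ,
    Algebra.TensorProduct.lift_tmul] at this
  exact this.symm

theorem glike_descend_insep [IsPurelyInseparable k K] (h : ∀ f : A, Unip23.IsPrim (k := k) f → f = 0)
    {x : K ⊗[k] A} (hx : IsGroupLikeElem K x) : ∃ g : A, IsGroupLikeElem k g ∧ (1 : K) ⊗ₜ[k] g = x := by
  classical
  let T := K ⊗[k] K
  let p : K →ₐ[k] T := Algebra.TensorProduct.includeLeft
  let q : K →ₐ[k] T := Algebra.TensorProduct.includeRight
  let P := Algebra.TensorProduct.map p (AlgHom.id k A)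
  let Q := Algebra.TensorProduct.map q (AlgHom.id k A)
  have hnat : ∀ (σ : K →ₐ[k] T) (f : A →ₐ[k] A ⊗[k] A) (y : K ⊗[k] A),
      Algebra.TensorProduct.map (AlgHom.id k T) f (Algebra.TensorProduct.map σ (AlgHom.id k A) y) =
      Algebra.TensorProduct.map σ (AlgHom.id k (A ⊗[k] A)) (Algebra.TensorProduct.map (AlgHom.id k K) f y) := by
    intro σ f y
    induction y using TensorProduct.induction_on with
    | zero => simp
    | tmul a b => simp
    | add a b ha hb => simp only [map_add, ha, hb]
  have hd := dT_eq_of_isGroupLikeElem hx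
  have hdσ : ∀ σ : K →ₐ[k] T, dT T A (Algebra.TensorProduct.map σ (AlgHom.id k A) x) =
      i1T T A (Algebra.TensorProduct.map σ (AlgHom.id k A) x) *
        i2T T A (Algebra.TensorProduct.map σ (AlgHom.id k A) x) := fun σ => by
    simp only [dT, i1T, i2T, hnat, ← map_mul]
    exact congrArg _ hd
  obtain ⟨w, hw⟩ := isUnit_iff_exists_inv.1 ((hx.isUnit).map Q)
  have hdw : dT T A w = i1T T A w * i2T T A w := by
    refine left_inv_eq_right_inv (a := dT T A (Q x)) ?_ ?_
    · rw [← map_mul, mul_comm, hw, map_one]
    · rw [hdσ q, mul_mul_mul_comm, ← map_mul, ← map_mul]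
      show i1T T A (Q x * w) * i2T T A (Q x * w) = 1
      rw [hw, map_one, map_one, mul_one]
  have hPQ : P x = Q x := by
    have h1 : P x * w = 1 := by
      refine eq_one_of_nil h _ ?_ fun φ => ?_
      · rw [map_mul, map_mul, map_mul, hdw, hdσ p]
        ring
      · let μ : T →ₐ[k] K := Algebra.TensorProduct.lmul' k
        have hker : ∀ t : T, μ t = 0 → IsNilpotent t := by
          have key : ∀ t : T, IsNilpotent (t - μ t ⊗ₜ[k] (1 : K)) := by
            intro t
            induction t using TensorProduct.induction_on with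
            | zero => rw [map_zero, TensorProduct.zero_tmul, sub_zero]; exact IsNilpotent.zero
            | add a b ha hb =>
              rw [map_add, TensorProduct.add_tmul, add_sub_add_comm]
              exact (Commute.all _ _).isNilpotent_add ha hb
            | tmul a b =>
              rw [Algebra.TensorProduct.lmul'_apply_tmul,
                show a ⊗ₜ[k] b - (a * b) ⊗ₜ[k] (1 : K) =
                  (a ⊗ₜ[k] (1 : K)) * ((1 : K) ⊗ₜ[k] b - b ⊗ₜ[k] (1 : K)) by
                  rw [mul_sub, Algebra.TensorProduct.tmul_mul_tmul, Algebra.TensorProduct.tmul_mul_tmul,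
                    mul_one, one_mul, mul_one]]
              refine (Commute.all _ _).isNilpotent_mul_left ?_
              obtain ⟨r, hr⟩ := ExpChar.exists k
              obtain ⟨n, l, hl⟩ := IsPurelyInseparable.pow_mem k r b
              haveI : ExpChar T r := expChar_of_injective_ringHom (algebraMap k T).injective r
              refine ⟨r ^ n, ?_⟩
              rw [sub_pow_expChar_pow, Algebra.TensorProduct.tmul_pow, Algebra.TensorProduct.tmul_pow,
                one_pow, ← hl, ← Algebra.TensorProduct.algebraMap_apply,
                ← Algebra.TensorProduct.algebraMap_apply', sub_self]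
          exact fun t ht => by simpa [ht] using key t
        refine hker _ ?_
        let M := Algebra.TensorProduct.map μ (AlgHom.id k A)
        have hM : ∀ y : T ⊗[k] A, μ (TensorProduct.rid k T (φ.lTensor T y)) =
            TensorProduct.rid k K (φ.lTensor K (M y)) := by
          intro y
          induction y using TensorProduct.induction_on with
          | zero => simp
          | tmul a b => simp [M]
          | add a b ha hb => simp only [map_add, ha, hb]
        have hMσ : ∀ σ : K →ₐ[k] T, μ.comp σ = AlgHom.id k K →
            ∀ y, M (Algebra.TensorProduct.map σ (AlgHom.id k A) y) = y := by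
          intro σ hσ y
          induction y using TensorProduct.induction_on with
          | zero => simp
          | tmul a b => simpa [M] using congrArg (· ⊗ₜ[k] b) (DFunLike.congr_fun hσ a)
          | add a b ha hb => simp only [map_add, ha, hb]
        have hp : μ.comp p = AlgHom.id k K := AlgHom.ext fun a => by
          show μ (a ⊗ₜ[k] (1 : K)) = a
          exact (Algebra.TensorProduct.lmul'_apply_tmul a 1).trans (mul_one a)
        have hq : μ.comp q = AlgHom.id k K := AlgHom.ext fun a => by
          show μ ((1 : K) ⊗ₜ[k] a) = a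
          exact (Algebra.TensorProduct.lmul'_apply_tmul 1 a).trans (one_mul a)
        rw [hM, map_sub, map_mul, map_one, hMσ p hp]
        have : x * M w = 1 := by
          have := congrArg M hw
          rwa [map_mul, map_one, hMσ q hq] at this
        rw [this, sub_self, map_zero, map_zero]
    calc P x = P x * (Q x * w) := by rw [hw, mul_one]
      _ = (P x * w) * Q x := by ring
      _ = Q x := by rw [h1, one_mul]
  -- the coefficients of `x` lie in `k`
  let b := Module.Free.chooseBasis k A
  let e := TensorProduct.equivFinsuppOfBasisRight (M := K) b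
  have hco : ∀ i, ∃ l : k, algebraMap k K l = e x i := by
    intro i
    let c := e x i
    have hpq : p c = q c := by
      let eT := TensorProduct.equivFinsuppOfBasisRight (M := T) b
      have hσ : ∀ (σ : K →ₐ[k] T) y, eT (Algebra.TensorProduct.map σ (AlgHom.id k A) y) i = σ (e y i) := by
        intro σ y
        induction y using TensorProduct.induction_on with
        | zero => simp
        | tmul a d => simp [eT, e]
        | add a d ha hd' => simp only [map_add, Finsupp.add_apply, ha, hd']
      have := congrArg (fun y => eT y i) hPQ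
      simpa only [P, Q, hσ] using this
    by_contra hne
    have hli : c ∉ Submodule.span k {(1 : K)} := fun hm => hne (by
      obtain ⟨l, hl⟩ := Submodule.mem_span_singleton.1 hm
      exact ⟨l, by rw [Algebra.algebraMap_eq_smul_one, hl]⟩)
    obtain ⟨f, hfc, hf1⟩ := Submodule.exists_dual_map_eq_bot_of_notMem hli inferInstance
    have hf1' : f 1 = 0 := by
      have : f 1 ∈ Submodule.map f (Submodule.span k {(1 : K)}) :=
        Submodule.mem_map_of_mem (Submodule.mem_span_singleton_self 1)
      rwa [hf1, Submodule.mem_bot] at this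
    have := congrArg (fun t => TensorProduct.lid k K (f.rTensor K t)) hpq
    change TensorProduct.lid k K (f.rTensor K (c ⊗ₜ[k] (1 : K))) =
      TensorProduct.lid k K (f.rTensor K ((1 : K) ⊗ₜ[k] c)) at this
    simp only [LinearMap.rTensor_tmul, TensorProduct.lid_tmul, hf1', zero_smul] at this
    rcases smul_eq_zero.1 this with h' | h'
    · exact hfc h'
    · exact one_ne_zero h'
  choose l hl using hco
  let s := (e x).support
  let g : A := ∑ i ∈ s, l i • b i
  have hg : (1 : K) ⊗ₜ[k] g = x := by
    conv_rhs => rw [← e.symm_apply_apply x]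
    simp only [g, TensorProduct.tmul_sum, e, TensorProduct.equivFinsuppOfBasisRight_symm_apply, Finsupp.sum]
    refine Finset.sum_congr rfl fun i _ => ?_
    rw [← TensorProduct.smul_tmul, Algebra.smul_def, mul_one, hl i]
  refine ⟨g, ⟨?_, ?_⟩, hg⟩
  · have h1 := hx.counit_eq_one
    rw [← hg, TensorProduct.counit_tmul, CommSemiring.counit_apply] at h1
    exact (algebraMap k K).injective (by simpa [Algebra.smul_def] using h1)
  · rw [← hg] at hd
    simp only [dT, i1T, i2T, Algebra.TensorProduct.map_tmul, AlgHom.id_apply,
      Algebra.TensorProduct.tmul_mul_tmul, one_mul, Algebra.TensorProduct.includeLeft_apply,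
      Algebra.TensorProduct.includeRight_apply, mul_one, Bialgebra.comulAlgHom_apply] at hd
    exact Module.FaithfullyFlat.tensorProduct_mk_injective (A := k) (B := K) _ hd

/-- Descent of diagonalisability along a purely inseparable extension. -/
theorem isDiagonalizable_of_insep [IsPurelyInseparable k K] (h : ∀ f : A, Unip23.IsPrim (k := k) f → f = 0)
    (hd : IsDiagonalizable K (K ⊗[k] A)) : IsDiagonalizable k A := by
  refine eq_top_iff.2 fun a _ => ?_
  let W : Submodule k A := Submodule.span k {z : A | IsGroupLikeElem k z}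
  show a ∈ W
  rw [← Submodule.Quotient.mk_eq_zero]
  apply Module.FaithfullyFlat.tensorProduct_mk_injective (A := k) (B := K) _
  show (1 : K) ⊗ₜ[k] W.mkQ a = (1 : K) ⊗ₜ[k] (0 : A ⧸ W)
  rw [TensorProduct.tmul_zero]
  have h3 : Submodule.span K {z : K ⊗[k] A | IsGroupLikeElem K z} ≤ LinearMap.ker (W.mkQ.baseChange K) := by
    rw [Submodule.span_le]
    intro z hz
    obtain ⟨g₀, hg₀, rfl⟩ := glike_descend_insep h hz
    simp [(Submodule.Quotient.mk_eq_zero W).2 (Submodule.subset_span hg₀)]
  simpa using h3 (hd.symm ▸ Submodule.mem_top : (1 : K) ⊗ₜ[k] a ∈ _)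

end descend

end Groth.Agent.DimOne23
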