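import Groth.Agent.Lib.Unip23.Flag
import Groth.Agent.Lib.Unip23.NoPrim
import Groth.Agent.Lib.Unip23.BaseChange
import Groth.Agent.S3308
import Mathlib.RingTheory.HopfAlgebra.GroupLike
import Mathlib.RingTheory.Coalgebra.TensorProduct
import Mathlib.RingTheory.Flat.Basic

/-!
# Commutative groups without additive functions are diagonalisable

`isDiagonalizable_of_noPrim`, `noPrim_baseChange`, `isCocomm_of_baseChange`.
-/

set_option autoImplicit false
set_option linter.style.haveILetI false
set_option backward.isDefEq.respectTransparency.types false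
set_option maxSynthPendingDepth 3

universe u v w

open HopfRep
open scoped TensorProduct

noncomputable section

namespace Groth.Agent.DimOne23

section noPrim

variable {k : Type u} [Field k] {A : Type v} [CommRing A] [HopfAlgebra k A] [Coalgebra.IsCocomm k A]

theorem isDiagonalizable_of_noPrim (hT : IsTrigonalizable k A) (h : ∀ f : A, Unip23.IsPrim (k := k) f → f = 0) :
    IsDiagonalizable k A := by
  classical
  by_contra hne
  let G := {a : A | IsGroupLikeElem k a}
  let S : Submodule k A := Submodule.span k G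
  obtain ⟨x₀, hx₀⟩ : ∃ x : A, x ∉ S := by
    by_contra! hall
    exact hne (Submodule.eq_top_iff'.2 hall)
  obtain ⟨n, F, h0, -, hsub, hstep, hmem⟩ := Unip23.hasFlag_of_isTrigonalizable hT (Set.finite_singleton x₀)
  have hex : ∃ i, ¬ F i ≤ S := ⟨n, fun hle => hx₀ (hle (hmem rfl))⟩
  obtain ⟨i, hi⟩ : ∃ i, Nat.find hex = i + 1 := by
    refine ⟨Nat.find hex - 1, (Nat.succ_pred_eq_of_ne_zero fun h' => ?_).symm⟩
    exact Nat.find_spec hex (by rw [h', h0]; exact bot_le)
  have hFi : F i ≤ S := not_not.1 (Nat.find_min hex (by omega))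
  obtain ⟨x, hxF, hxS⟩ := SetLike.not_le_iff_exists.1 (hi ▸ Nat.find_spec hex)
  -- the coaction modulo the group-like elements
  have hdec : ∀ y ∈ F (i + 1), ∃ r : k, y - r • x ∈ S := by
    intro y hy
    obtain ⟨a, b, hab, hm⟩ := hstep i x hxF y hy
    have hb : b ≠ 0 := by
      rintro rfl
      rcases hab with rfl | hab
      · exact hxS (hFi (by simpa using hm))
      · exact zero_ne_one hab
    refine ⟨-(b⁻¹ * a), ?_⟩
    have h1 := S.smul_mem b⁻¹ (hFi hm)
    rw [smul_add, smul_smul, smul_smul, inv_mul_cancel₀ hb, one_smul] at h1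
    rwa [neg_smul, sub_neg_eq_add, add_comm]
  obtain ⟨g, t, hgt⟩ : ∃ (g : A) (t : S ⊗[k] A),
      CoalgebraStruct.comul (R := k) x = x ⊗ₜ[k] g + S.subtype.rTensor A t := by
    obtain ⟨z, hz⟩ := hsub (i + 1) x hxF
    rw [← hz]
    clear hz
    induction z with
    | zero => exact ⟨0, 0, by simp⟩
    | tmul y a =>
      obtain ⟨r, hr⟩ := hdec y.1 y.2
      refine ⟨r • a, (⟨_, hr⟩ : S) ⊗ₜ[k] a, ?_⟩
      rw [LinearMap.rTensor_tmul, LinearMap.rTensor_tmul, TensorProduct.tmul_smul, TensorProduct.smul_tmul',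
        ← TensorProduct.add_tmul]
      show y.1 ⊗ₜ[k] a = (r • x + (y.1 - r • x)) ⊗ₜ[k] a
      rw [add_sub_cancel]
    | add p q hp hq =>
      obtain ⟨g₁, t₁, h₁⟩ := hp
      obtain ⟨g₂, t₂, h₂⟩ := hq
      exact ⟨g₁ + g₂, t₁ + t₂, by rw [map_add, map_add, h₁, h₂, TensorProduct.tmul_add]; abel⟩
  -- coordinates along group-like elements
  have hli : LinearIndependent k (Subtype.val : G → A) := linearIndepOn_isGroupLikeElem (R := k) (A := A)
  let bS : Module.Basis G k S := (Module.Basis.span hli).map (LinearEquiv.ofEq _ _ (by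
    rw [Subtype.range_coe_subtype]; rfl))
  have hbS : ∀ h : G, (bS h : A) = h.1 := fun h => by
    simp only [bS, Module.Basis.map_apply, LinearEquiv.coe_ofEq_apply]
    exact congrArg Subtype.val (Module.Basis.span_apply hli h) |>.trans rfl
  let c : G →₀ A := TensorProduct.equivFinsuppOfBasisLeft bS t
  have ht : S.subtype.rTensor A t = c.sum fun h a => h.1 ⊗ₜ[k] a := by
    conv_lhs => rw [← (TensorProduct.equivFinsuppOfBasisLeft bS).symm_apply_apply t]
    rw [TensorProduct.equivFinsuppOfBasisLeft_symm_apply, map_finsuppSum]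
    exact Finsupp.sum_congr fun h _ => by rw [LinearMap.rTensor_tmul]; show (bS h : A) ⊗ₜ[k] _ = _; rw [hbS]
  -- slices
  let sl : Module.Dual k A → A ⊗[k] A →ₗ[k] A := fun θ => (TensorProduct.lid k A).toLinearMap ∘ₗ θ.rTensor A
  have hsl : ∀ (θ : Module.Dual k A) (a b : A), sl θ (a ⊗ₜ[k] b) = θ a • b := fun θ a b => by simp [sl]
  have hΔx : ∀ θ : Module.Dual k A, sl θ (CoalgebraStruct.comul (R := k) x) =
      θ x • g + c.sum fun h a => θ h.1 • a := fun θ => by
    rw [hgt, map_add, hsl, ht, map_finsuppSum]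
    simp only [hsl]
  have hΔ : ∀ θ : Module.Dual k A, CoalgebraStruct.comul (R := k) (sl θ (CoalgebraStruct.comul (R := k) x)) =
      sl θ (CoalgebraStruct.comul (R := k) x) ⊗ₜ[k] g + c.sum fun h a => (θ h.1 • h.1) ⊗ₜ[k] a := by
    intro θ
    let L : A ⊗[k] (A ⊗[k] A) →ₗ[k] A ⊗[k] A := (TensorProduct.lid k (A ⊗[k] A)).toLinearMap ∘ₗ θ.rTensor (A ⊗[k] A)
    have e1 : ∀ z : A ⊗[k] A, CoalgebraStruct.comul (R := k) (sl θ z) =
        L ((CoalgebraStruct.comul (R := k) (A := A)).lTensor A z) := fun z => by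
      induction z with
      | zero => simp
      | tmul p q => simp [L, hsl]
      | add p q hp hq => simp only [map_add, hp, hq]
    rw [e1, ← Coalgebra.coassoc_apply]
    conv_lhs => rw [hgt, ht]
    have e2 : ∀ (w : A ⊗[k] A) (q : A), L (TensorProduct.assoc k A A A (w ⊗ₜ[k] q)) = sl θ w ⊗ₜ[k] q := fun w q => by
      induction w with
      | zero => simp
      | tmul p r => simp [L, hsl, TensorProduct.smul_tmul']
      | add p r hp hr => simp only [TensorProduct.add_tmul, map_add, hp, hr]
    rw [map_add, LinearMap.rTensor_tmul, map_add, map_add, e2, map_finsuppSum, map_finsuppSum, map_finsuppSum]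
    congr 1
    refine Finsupp.sum_congr fun h' _ => ?_
    rw [LinearMap.rTensor_tmul, h'.2.comul_eq_tmul_self, e2, hsl]
  -- the quotient character
  have hcS : ∃ h : G, c h ∉ S := by
    by_contra! hall
    have e : sl (CoalgebraStruct.counit (R := k)) (CoalgebraStruct.comul (R := k) x) = x := by
      show TensorProduct.lid k A _ = x
      rw [Coalgebra.rTensor_counit_comul, TensorProduct.lid_tmul, one_smul]
    obtain ⟨φ, hφx, hφS⟩ : ∃ φ : Module.Dual k A, φ x = 1 ∧ ∀ s ∈ S, φ s = 0 := by
      obtain ⟨φ, hφ, hφ'⟩ := Submodule.exists_dual_map_eq_bot_of_notMem hxS inferInstance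
      refine ⟨(φ x)⁻¹ • φ, by simp [hφ], fun s hs => ?_⟩
      have : φ s ∈ S.map φ := ⟨s, hs, rfl⟩
      rw [hφ', Submodule.mem_bot] at this
      simp [this]
    have hgS : sl φ (CoalgebraStruct.comul (R := k) x) = g := by
      rw [hΔx, hφx, one_smul, Finsupp.sum, Finset.sum_eq_zero, add_zero]
      exact fun h _ => by rw [hφS _ (Submodule.subset_span h.2), zero_smul]
    have hgl : CoalgebraStruct.comul (R := k) g = g ⊗ₜ[k] g := by
      have h1 := hΔ φ
      rw [hgS, Finsupp.sum, Finset.sum_eq_zero, add_zero] at h1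
      · exact h1
      · exact fun h _ => by rw [hφS _ (Submodule.subset_span h.2), zero_smul, TensorProduct.zero_tmul]
    by_cases hg0 : g = 0
    · refine hxS ?_
      rw [← e, hΔx, hg0, smul_zero, zero_add]
      exact Submodule.sum_mem _ fun h _ => S.smul_mem _ (hall h)
    have hε : CoalgebraStruct.counit (R := k) g = 1 := by
      have h1 := congrArg (TensorProduct.lid k A) (Coalgebra.rTensor_counit_comul (R := k) g)
      rw [hgl, LinearMap.rTensor_tmul, TensorProduct.lid_tmul, TensorProduct.lid_tmul, one_smul] at h1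
      exact smul_left_injective k hg0 (h1.trans (one_smul k g).symm)
    refine hxS ?_
    rw [← e, hΔx]
    exact add_mem (S.smul_mem _ (Submodule.subset_span (show g ∈ G from ⟨hε, hgl⟩)))
      (Submodule.sum_mem _ fun h _ => S.smul_mem _ (hall h))
  obtain ⟨h₁, hh₁⟩ := hcS
  obtain ⟨θ, hθ⟩ := LinearMap.exists_extend (bS.coord h₁)
  have hθ' : ∀ h : G, θ h.1 = if h = h₁ then 1 else 0 := fun h => by
    have := LinearMap.congr_fun hθ (bS h)
    simp only [LinearMap.comp_apply, Submodule.coe_subtype, hbS, Module.Basis.coord_apply,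
      Module.Basis.repr_self, Finsupp.single_apply] at this
    exact this
  have hsum : (c.sum fun h a => θ h.1 • a) = c h₁ := by
    rw [Finsupp.sum, Finset.sum_eq_single h₁ (fun b _ hb => by rw [hθ', if_neg hb, zero_smul])
      (fun hn => by rw [Finsupp.notMem_support_iff.1 hn, smul_zero]), hθ', if_pos rfl, one_smul]
  have hsum' : (c.sum fun h a => (θ h.1 • h.1) ⊗ₜ[k] a) = h₁.1 ⊗ₜ[k] c h₁ := by
    rw [Finsupp.sum, Finset.sum_eq_single h₁ (fun b _ hb => by rw [hθ', if_neg hb, zero_smul, TensorProduct.zero_tmul])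
      (fun hn => by rw [Finsupp.notMem_support_iff.1 hn, TensorProduct.tmul_zero]), hθ', if_pos rfl, one_smul]
  have hΔc := hΔ θ
  rw [hΔx, hsum, hsum'] at hΔc
  obtain ⟨hgG, hΔc⟩ : IsGroupLikeElem k g ∧
      CoalgebraStruct.comul (R := k) (c h₁) = c h₁ ⊗ₜ[k] g + h₁.1 ⊗ₜ[k] c h₁ := by
    obtain ⟨φ, hφx, hφS⟩ : ∃ φ : Module.Dual k A, φ x = 1 ∧ ∀ s ∈ S, φ s = 0 := by
      obtain ⟨φ, hφ, hφ'⟩ := Submodule.exists_dual_map_eq_bot_of_notMem hxS inferInstance
      refine ⟨(φ x)⁻¹ • φ, by simp [hφ], fun s hs => ?_⟩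
      have : φ s ∈ S.map φ := ⟨s, hs, rfl⟩
      rw [hφ', Submodule.mem_bot] at this
      simp [this]
    have hgS : sl φ (CoalgebraStruct.comul (R := k) x) = g := by
      rw [hΔx, hφx, one_smul, Finsupp.sum, Finset.sum_eq_zero, add_zero]
      exact fun h _ => by rw [hφS _ (Submodule.subset_span h.2), zero_smul]
    have hgl : CoalgebraStruct.comul (R := k) g = g ⊗ₜ[k] g := by
      have h1 := hΔ φ
      rw [hgS, Finsupp.sum, Finset.sum_eq_zero, add_zero] at h1
      · exact h1
      · exact fun h _ => by rw [hφS _ (Submodule.subset_span h.2), zero_smul, TensorProduct.zero_tmul]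
    have h2 : CoalgebraStruct.comul (R := k) (c h₁) = c h₁ ⊗ₜ[k] g + h₁.1 ⊗ₜ[k] c h₁ := by
      have h3 := hΔc
      rw [map_add, map_smul, hgl, TensorProduct.add_tmul, TensorProduct.smul_tmul'] at h3
      rw [add_assoc] at h3
      exact add_left_cancel h3
    refine ⟨⟨?_, hgl⟩, h2⟩
    have hc0 : c h₁ ≠ 0 := fun e => hh₁ (e ▸ zero_mem S)
    have h4 := congrArg (TensorProduct.rid k A) (Coalgebra.lTensor_counit_comul (R := k) (c h₁))
    rw [h2, map_add, LinearMap.lTensor_tmul, LinearMap.lTensor_tmul, map_add, TensorProduct.rid_tmul,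
      TensorProduct.rid_tmul, TensorProduct.rid_tmul, one_smul] at h4
    by_cases hg1 : g = 0
    · exfalso
      rw [hg1, map_zero, zero_smul, zero_add] at h4
      exact hh₁ (h4 ▸ S.smul_mem _ (Submodule.subset_span h₁.2))
    · have h1 := congrArg (TensorProduct.lid k A) (Coalgebra.rTensor_counit_comul (R := k) g)
      rw [hgl, LinearMap.rTensor_tmul, TensorProduct.lid_tmul, TensorProduct.lid_tmul, one_smul] at h1
      exact smul_left_injective k hg1 (h1.trans (one_smul k g).symm)
  -- translate to the unit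
  let gg : GroupLike k A := ⟨g, hgG⟩
  let hh : GroupLike k A := ⟨h₁.1, h₁.2⟩
  let u : A := ((gg * hh⁻¹ : GroupLike k A) : A)
  let y : A := c h₁ * ((hh⁻¹ : GroupLike k A) : A)
  have hback : y * h₁.1 = c h₁ := by
    show c h₁ * ((hh⁻¹ : GroupLike k A) : A) * (hh : A) = _
    rw [mul_assoc, ← GroupLike.val_mul, inv_mul_cancel, GroupLike.val_one, mul_one]
  have hΔy : CoalgebraStruct.comul (R := k) y = y ⊗ₜ[k] u + (1 : A) ⊗ₜ[k] y := by
    show CoalgebraStruct.comul (R := k) (c h₁ * _) = _
    rw [Bialgebra.comul_mul, hΔc, (hh⁻¹).2.comul_eq_tmul_self, add_mul, Algebra.TensorProduct.tmul_mul_tmul,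
      Algebra.TensorProduct.tmul_mul_tmul]
    congr 1
    rw [show h₁.1 * ((hh⁻¹ : GroupLike k A) : A) = ((hh * hh⁻¹ : GroupLike k A) : A) from (GroupLike.val_mul hh hh⁻¹).symm,
      mul_inv_cancel, GroupLike.val_one]
  have hmulS : ∀ a ∈ S, a * h₁.1 ∈ S := fun a ha => by
    induction ha using Submodule.span_induction with
    | mem b hb => exact Submodule.subset_span (hb.mul h₁.2)
    | zero => rw [zero_mul]; exact zero_mem _
    | add p q _ _ hp hq => rw [add_mul]; exact add_mem hp hq
    | smul r p _ hp => rw [smul_mul_assoc]; exact S.smul_mem _ hp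
  have hyS : y ∉ S := fun hy => hh₁ (hback ▸ hmulS y hy)
  by_cases hu : u = 1
  · exact hyS ((h y (by rw [Unip23.IsPrim, hΔy, hu])).symm ▸ zero_mem S)
  obtain ⟨ψ, hψ⟩ : ∃ ψ : Module.Dual k A, ψ (u - 1) = 1 :=
    Module.Projective.exists_dual_eq_one k (sub_ne_zero.2 hu)
  have hsw := Coalgebra.comm_comul k y
  rw [hΔy, map_add, TensorProduct.comm_tmul, TensorProduct.comm_tmul] at hsw
  have h5 : y ⊗ₜ[k] (u - 1) = (u - 1) ⊗ₜ[k] y := by
    rw [TensorProduct.tmul_sub, TensorProduct.sub_tmul, sub_eq_sub_iff_add_eq_add, ← hsw, add_comm]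
  have h6 := congrArg (fun z => TensorProduct.rid k A (ψ.lTensor A z)) h5
  simp only [LinearMap.lTensor_tmul, TensorProduct.rid_tmul, hψ, one_smul] at h6
  exact hyS (h6 ▸ S.smul_mem _ (sub_mem (Submodule.subset_span (gg * hh⁻¹).2)
    (Submodule.subset_span (show (1 : A) ∈ G from ⟨Bialgebra.counit_one, Bialgebra.comul_one⟩))))

end noPrim

section baseChange

variable {k : Type u} [Field k] {A : Type v} [CommRing A] [HopfAlgebra k A] {K : Type w} [Field K] [Algebra k K]

theorem isCocomm_of_baseChange [hK : Coalgebra.IsCocomm K (K ⊗[k] A)] : Coalgebra.IsCocomm k A := by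
  refine ⟨LinearMap.ext fun a => ?_⟩
  have hinj : Function.Injective (Unip23.distrib k A K) := fun s t hst => by
    have h1 := congrArg (Unip23.regroup k A K) hst
    rw [Unip23.regroup_distrib, Unip23.regroup_distrib] at h1
    exact Algebra.TensorProduct.includeRight_injective (R := k) (A := K) (B := A ⊗[k] A) (algebraMap k K).injective h1
  refine hinj ?_
  have hswap : ∀ t : A ⊗[k] A, Unip23.distrib k A K (TensorProduct.comm k A A t) =
      TensorProduct.comm K _ _ (Unip23.distrib k A K t) := fun t => by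
    induction t with
    | zero => simp
    | tmul p q => simp
    | add p q hp hq => simp only [map_add, hp, hq]
  show Unip23.distrib k A K (TensorProduct.comm k A A (CoalgebraStruct.comul (R := k) a)) = _
  rw [hswap, ← Unip23.comul_one_tmul]
  exact Coalgebra.comm_comul K _

theorem noPrim_baseChange (h : ∀ f : A, Unip23.IsPrim (k := k) f → f = 0) {y : K ⊗[k] A}
    (hy : Unip23.IsPrim (k := K) y) : y = 0 := by
  let L : A →ₗ[k] A ⊗[k] A := Unip23.devR k A - TensorProduct.mk k A A 1
  have hL : Function.Injective L := (injective_iff_map_eq_zero L).2 fun f hf => h f (by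
    show CoalgebraStruct.comul (R := k) f = _
    have h1 : CoalgebraStruct.comul (R := k) f - f ⊗ₜ[k] (1 : A) - (1 : A) ⊗ₜ[k] f = 0 := hf
    linear_combination (norm := abel) h1)
  refine Module.Flat.lTensor_preserves_injective_linearMap (M := K) L hL ?_
  rw [map_zero, show L = Unip23.devR k A - TensorProduct.mk k A A 1 from rfl, LinearMap.lTensor_sub,
    LinearMap.sub_apply, ← Unip23.regroup_devR, sub_eq_zero]
  have e1 : Unip23.devR K (K ⊗[k] A) y = (1 : K ⊗[k] A) ⊗ₜ[K] y := by
    show CoalgebraStruct.comul (R := K) y - y ⊗ₜ[K] (1 : K ⊗[k] A) = _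
    rw [show CoalgebraStruct.comul (R := K) y = _ from hy, add_sub_cancel_left]
  rw [e1]
  clear e1 hy
  induction y with
  | zero => simp
  | tmul r a => simp [Algebra.TensorProduct.one_def]
  | add p q hp hq => simp only [TensorProduct.tmul_add, map_add, hp, hq]

end baseChange

theorem isDiagonalizable_baseChange_iff {k K : Type u} [Field k] [Field K] [Algebra k K] [IsAlgClosed K]
    {A : Type v} [CommRing A] [HopfAlgebra k A] [Algebra.FiniteType k A] :
    IsDiagonalizable K (K ⊗[k] A) ↔
      Coalgebra.IsCocomm k A ∧ ∀ f : A, Unip23.IsPrim (k := k) f → f = 0 := by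
  constructor
  · intro hd
    have hK : Coalgebra.IsCocomm K (K ⊗[k] A) := by
      refine ⟨LinearMap.ext_on hd fun a ha => ?_⟩
      show TensorProduct.comm K _ _ (CoalgebraStruct.comul (R := K) a) = CoalgebraStruct.comul (R := K) a
      rw [IsGroupLikeElem.comul_eq_tmul_self ha, TensorProduct.comm_tmul]
    exact ⟨isCocomm_of_baseChange (K := K), fun f hf =>
      Unip23.eq_zero_of_isPrim_baseChange (fun y hy => Unip23.eq_zero_of_isPrim_of_span hd hy) hf⟩
  · rintro ⟨hc, h⟩
    haveI := hc
    haveI : Algebra.FiniteType K (K ⊗[k] A) := inferInstance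
    exact isDiagonalizable_of_noPrim (S3308.result K _) fun y hy => noPrim_baseChange h hy

end Groth.Agent.DimOne23
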